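import Cfsg.Agent.Lib.Chev.Comm
import Cfsg.Agent.Lib.Chev.All
import Cfsg.Agent.Lib.Chev.Structure
import Cfsg.Agent.Lib.Chev.Auto

/-!
The tabulated Chevalley groups are perfect, except possibly G2 and B2 over the field with two elements.
Root subgroups of fundamental roots lie in the derived group by a one-term commutator or by a torus
commutator; the Weyl elements carry this to every root.
-/

set_option autoImplicit false

namespace CfsgLib.ChevPerfect

open Cfsg.Lie CfsgLib.Chev
open scoped MatrixGroups commutatorElement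

/-- Every fundamental root is a one-term commutator with coefficient `±1`. -/
def unitTest (D : ChevalleyDatum) : Bool :=
  (List.range D.rank).all fun i => (List.range D.rank).any fun j =>
    let a := D.reflectRoot j (D.simple i)
    let b := D.neg (D.simple j)
    (b != a) && (b != D.neg a) &&
      ((D.commTerms a b == [(D.simple i, (1 : ℤ), 1, 1)]) || (D.commTerms a b == [(D.simple i, (-1 : ℤ), 1, 1)]))

/-- Every fundamental root is moved by some torus element of order two, or is a one-term commutator with
coefficient `±2`. -/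
def oddTest (D : ChevalleyDatum) : Bool :=
  (List.range D.rank).all fun i => (List.range D.rank).any fun j =>
    let a := D.reflectRoot i (D.simple j)
    let b := D.neg (D.simple j)
    (D.cartan j (D.simple i) % 2 != 0) || ((b != a) && (b != D.neg a) &&
      ((D.commTerms a b == [(D.simple i, (2 : ℤ), 1, 1)]) || (D.commTerms a b == [(D.simple i, (-2 : ℤ), 1, 1)])))

variable {D : ChevalleyDatum} {T : Tabs} {F : Type*} [Field F]

theorem derived_conj {g x : GL D.Idx F} (hg : g ∈ D.group F) (hx : x ∈ ⁅D.group F, D.group F⁆) :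
    g * x * g⁻¹ ∈ ⁅D.group F, D.group F⁆ := by
  have hxG : x ∈ D.group F := Subgroup.commutator_le_self (D.group F) hx
  rw [show g * x * g⁻¹ = ⁅g, x⁆ * x by rw [commutatorElement_def]; group]
  exact mul_mem (Subgroup.commutator_mem_commutator hg hxG) hx

variable (hc : Checked D T)
include hc

/-- A one-term commutator puts a root subgroup into the derived group. -/
theorem mem_of_comm (hcomm : CommOne D T) {a b c : ℕ} {e : ℤ} (ha : a < D.nroots) (hb : b < D.nroots)
    (hne : b ≠ a) (hneg : b ≠ D.neg a) (h : D.commTerms a b = [(c, e, 1, 1)]) (he : (e : F) ≠ 0) (t : F) :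
    elX D F c t ∈ ⁅D.group F, D.group F⁆ := by
  have hx := elX_comm hc hcomm (F := F) ha hb hne hneg (-1) (t / e)
  rw [ChevalleyDatum.commWord, h, wordGL] at hx
  simp only [List.map_cons, List.map_nil, List.prod_cons, List.prod_nil, mul_one, pow_one, neg_neg] at hx
  rw [mul_div_cancel₀ t he] at hx
  have := Subgroup.commutator_mem_commutator (inv_mem (elX_mem_group hc hb (t / e) (F := F)))
    (inv_mem (elX_mem_group hc ha (-1 : F)))
  rw [commutatorElement_def, inv_inv, inv_inv] at this
  convert this using 1
  rw [mul_assoc _ (elX D F b (t / e)) (elX D F a (-1)), hx]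
  group

/-- A torus element moving a root puts its root subgroup into the derived group. -/
theorem mem_of_torus (j : Fin D.rank) {r : ℕ} (hr : r < D.nroots) (a : Fˣ) (ha : a ^ D.cartan j r ≠ 1) (t : F) :
    elX D F r t ∈ ⁅D.group F, D.group F⁆ := by
  set h := torus D T F (corChar D T (D.simple j) a)
  have hh : h ∈ D.group F := diagonal_le_group hc (torus_corChar_mem hc a)
  set k : F := ((a ^ D.cartan j r : Fˣ) : F)
  have hk : k - 1 ≠ 0 := sub_ne_zero.2 fun e => ha (Units.ext (by simpa [k] using e))
  have := Subgroup.commutator_mem_commutator hh (elX_mem_group hc hr (t / (k - 1)) (F := F))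
  rw [commutatorElement_def, torus_conj_elX hc _ hr, chi_corChar_simple hc j hr, elX_inv hc F hr,
    elX_add hc F hr] at this
  convert this using 2
  have e : t / (k - 1) * (k - 1) = t := div_mul_cancel₀ t hk
  linear_combination (-1 : F) * e

theorem commutator_eq_top_of_simple
    (h : ∀ (i : Fin D.rank) (t : F), elX D F (D.simple i) t ∈ ⁅D.group F, D.group F⁆) :
    commutator ↥(D.group F) = ⊤ := by
  have key : ∀ r, r < D.nroots → ∀ t : F, elX D F r t ∈ ⁅D.group F, D.group F⁆ := fun r hr =>
    root_induction hc (P := fun r => ∀ t : F, elX D F r t ∈ ⁅D.group F, D.group F⁆) h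
      (fun i s hs hP t => by
        have h2 := derived_conj (elN_mem_group hc (simple_lt hc i.2) (1 : F)) (hP ((eta D T i s : F) * t))
        rw [nOne_conj_elX hc i hs, ← mul_assoc] at h2
        rcases eta_cast hc (F := F) i hs with e | e <;> rw [e] at h2 <;> simpa using h2) hr
  have htop : D.group F ≤ ⁅D.group F, D.group F⁆ := by
    conv_lhs => rw [group_eq hc]
    exact uGen_le_iff.2 fun r hr _ t => key r hr t
  refine Subgroup.map_injective (D.group F).subtype_injective ?_
  rw [commutator_def, Subgroup.map_commutator, ← MonoidHom.range_eq_map, Subgroup.range_subtype]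
  exact le_antisymm (Subgroup.commutator_le_self _) htop

theorem perfect_of_unitTest (hcomm : CommOne D T) (h : unitTest D = true) :
    commutator ↥(D.group F) = ⊤ := by
  refine commutator_eq_top_of_simple hc fun i t => ?_
  simp only [unitTest, List.all_eq_true, List.any_eq_true, List.mem_range, Bool.and_eq_true, Bool.or_eq_true,
    bne_iff_ne, beq_iff_eq] at h
  obtain ⟨j, hj, ⟨h1, h2⟩, h3⟩ := h i i.2
  have ha : D.reflectRoot j (D.simple i) < D.nroots := by
    rw [reflectRoot_eq hc ⟨j, hj⟩ (simple_lt hc i.2)]; exact sig_lt hc ⟨j, hj⟩ (simple_lt hc i.2)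
  have hb := neg_lt hc (simple_lt hc hj)
  rcases h3 with h3 | h3 <;> exact mem_of_comm hc hcomm ha hb h1 h2 h3 (by simp) t

theorem perfect_of_oddTest (hcomm : CommOne D T) (h : oddTest D = true) (hF : ∃ a : F, a ≠ 0 ∧ a ≠ 1) :
    commutator ↥(D.group F) = ⊤ := by
  refine commutator_eq_top_of_simple hc fun i t => ?_
  have hp := simple_lt hc i.2
  by_cases hsq : ∃ a : F, a ≠ 0 ∧ a ^ 2 ≠ 1
  · obtain ⟨a, ha0, ha⟩ := hsq
    refine mem_of_torus hc i hp (Units.mk0 a ha0) ?_ t
    rw [show D.cartan i (D.simple i) = 2 from cm_self hc i]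
    exact fun e => ha (by simpa [zpow_ofNat] using congrArg Units.val e)
  · push Not at hsq
    obtain ⟨a, ha0, ha1⟩ := hF
    have hm : a = -1 := (sq_eq_one_iff.1 (hsq a ha0)).resolve_left ha1
    subst hm
    have h2 : (2 : F) ≠ 0 := fun e => ha1 (by linear_combination -e)
    simp only [oddTest, List.all_eq_true, List.any_eq_true, List.mem_range, Bool.and_eq_true, Bool.or_eq_true,
      bne_iff_ne, beq_iff_eq] at h
    obtain ⟨j, hj, hodd | ⟨⟨h1, h3⟩, h4⟩⟩ := h i i.2
    · refine mem_of_torus hc ⟨j, hj⟩ hp (-1) ?_ t
      obtain ⟨m, hm⟩ : Odd (D.cartan j (D.simple i)) := Int.odd_iff.2 (by omega)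
      intro e
      rw [hm, zpow_add, zpow_mul, zpow_one, show ((-1 : Fˣ) ^ (2 : ℤ)) = 1 by simp, one_zpow, one_mul] at e
      exact ha1 (by simpa using congrArg Units.val e)
    · have ha : D.reflectRoot i (D.simple j) < D.nroots := by
        rw [reflectRoot_eq hc i (simple_lt hc hj)]; exact sig_lt hc i (simple_lt hc hj)
      have hb := neg_lt hc (simple_lt hc hj)
      rcases h4 with h4 | h4 <;> exact mem_of_comm hc hcomm ha hb h1 h3 h4 (by simpa using h2) t

end CfsgLib.ChevPerfect
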