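import Cfsg.Agent.Lib.ChevPerfect.Basic

/-!
`G = G'` for the tabulated Chevalley groups, except G2 and B2 over the field with two elements.
-/

set_option autoImplicit false

namespace CfsgLib.ChevPerfect

open Cfsg.Lie CfsgLib.Chev

theorem unit_D4 : unitTest chevD4 = true := by decide +kernel

theorem unit_F4 : unitTest chevF4 = true := by decide +kernel

theorem unit_E6 : unitTest chevE6 = true := by decide +kernel

theorem unit_E7 : unitTest chevE7 = true := by decide +kernel

theorem unit_E8 : unitTest chevE8 = true := by decide +kernel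

theorem odd_G2 : oddTest chevG2 = true := by decide +kernel

theorem odd_B2 : oddTest chevB2 = true := by decide +kernel

/-- `G = G'`, except for G2 and B2 over the field with two elements. -/
theorem commutator_group_eq_top {F : Type*} [Field F] {D : ChevalleyDatum}
    (hD : D ∈ [chevG2, chevB2, chevD4, chevF4, chevE6, chevE7, chevE8])
    (h2 : D = chevG2 ∨ D = chevB2 → ∃ a : F, a ≠ 0 ∧ a ≠ 1) :
    commutator ↥(D.group F) = ⊤ := by
  obtain ⟨T, hc, hcomm⟩ := exists_checked' hD
  simp only [List.mem_cons, List.not_mem_nil, or_false] at hD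
  rcases hD with rfl | rfl | rfl | rfl | rfl | rfl | rfl
  · exact perfect_of_oddTest hc hcomm odd_G2 (h2 (Or.inl rfl))
  · exact perfect_of_oddTest hc hcomm odd_B2 (h2 (Or.inr rfl))
  · exact perfect_of_unitTest hc hcomm unit_D4
  · exact perfect_of_unitTest hc hcomm unit_F4
  · exact perfect_of_unitTest hc hcomm unit_E6
  · exact perfect_of_unitTest hc hcomm unit_E7
  · exact perfect_of_unitTest hc hcomm unit_E8

end CfsgLib.ChevPerfect
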